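import Mathlib
import Groth.Agent.Lib.Helper8.Japanese.ComplRed12

namespace Groth.Agent.H8.Zar
open IsLocalRing
universe u

/-- A regular local domain of dimension one is a discrete valuation ring. -/
theorem isDVR_of_isRegularLocalRing (B : Type u) [CommRing B] [IsDomain B] [IsRegularLocalRing B]
    (hdim : ringKrullDim B = 1) : IsDiscreteValuationRing B := by
  have hnf : ¬ IsField B := by
    intro hf
    have := ringKrullDim_eq_zero_of_isField hf
    rw [this] at hdim
    exact zero_ne_one hdim
  have h1 := (IsRegularLocalRing.iff_finrank_cotangentSpace B).mp inferInstance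
  rw [hdim] at h1
  have h2 : Module.finrank (ResidueField B) (CotangentSpace B) = 1 := by exact_mod_cast h1
  exact ((IsDiscreteValuationRing.TFAE B hnf).out 0 5).mpr h2

theorem zariski_reduced {R : Type u} [CommRing R] [IsDomain R] [IsLocalRing R]
    [IsNoetherianRing R] (x : R) (hx : x ≠ 0) (hxm : x ∈ IsLocalRing.maximalIdeal R)
    (hemb : ∀ p ∈ associatedPrimes R (R ⧸ Ideal.span {x}), p ∈ (Ideal.span {x}).minimalPrimes)
    (hreg : ∀ p ∈ associatedPrimes R (R ⧸ Ideal.span {x}), ∀ (_ : p.IsPrime),
      IsRegularLocalRing (Localization.AtPrime p) ∧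
        IsReduced (AdicCompletion ((IsLocalRing.maximalIdeal R).map (Ideal.Quotient.mk p)) (R ⧸ p))) :
    IsReduced (AdicCompletion (IsLocalRing.maximalIdeal R) R) := by
  have hxnzd : x ∈ nonZeroDivisors R := mem_nonZeroDivisors_of_ne_zero hx
  have hann : Module.annihilator R (R ⧸ Ideal.span {x}) = Ideal.span {x} :=
    Ideal.annihilator_quotient
  have hmin_ass : ∀ p ∈ (Ideal.span {x}).minimalPrimes,
      p ∈ associatedPrimes R (R ⧸ Ideal.span {x}) := by
    intro p hp
    apply Module.associatedPrimes.minimalPrimes_annihilator_subset_associatedPrimes R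
      (R ⧸ Ideal.span {x})
    rw [hann]; exact hp
  refine Groth.Agent.H8.Jap.ComplRed.isReduced_cpl_of_zariski R x hxm hxnzd (fun p hp => hemb p hp)
    (fun q _ hq => ?_) (fun q _ hq => ?_)
  · -- DVR
    obtain ⟨hrl, -⟩ := hreg q (hmin_ass q hq) inferInstance
    haveI := hrl
    refine ⟨inferInstance, ?_⟩
    have hht1 : q.height ≤ 1 := by
      haveI : (Ideal.span {x}).IsPrincipal := ⟨⟨x, rfl⟩⟩
      exact Ideal.height_le_one_of_isPrincipal_of_mem_minimalPrimes _ q hq
    have hqne : q ≠ ⊥ := by
      intro h0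
      have : x ∈ q := hq.1.2 (Ideal.mem_span_singleton_self x)
      rw [h0] at this
      exact hx this
    have hht0 : q.height ≠ 0 := by
      intro h0
      have hqmin : q ∈ minimalPrimes R := Ideal.height_eq_zero_iff.mp h0
      rw [IsDomain.minimalPrimes_eq_singleton_bot] at hqmin
      exact hqne hqmin
    have hht : q.height = 1 := le_antisymm hht1 (Order.one_le_iff_pos.mpr (pos_iff_ne_zero.mpr hht0))
    apply isDVR_of_isRegularLocalRing
    rw [IsLocalization.AtPrime.ringKrullDim_eq_height q, hht]
    rfl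
  · obtain ⟨-, hred⟩ := hreg q (hmin_ass q hq) inferInstance
    have hmap : (maximalIdeal R).map (Ideal.Quotient.mk q) = maximalIdeal (R ⧸ q) := by
      apply IsLocalRing.eq_maximalIdeal
      apply Ideal.IsMaximal.map_of_surjective_of_ker_le Ideal.Quotient.mk_surjective
      rw [Ideal.mk_ker]
      exact IsLocalRing.le_maximalIdeal (‹q.IsPrime›.ne_top)
    rw [hmap] at hred
    exact hred

end Groth.Agent.H8.Zar
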